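import Cfsg.Agent.Depth.L.Lane
import Cfsg.Agent.Depth.L.Iface

/-!
# Depth L: arithmetic of numbers in lanes (helper46)

`∑ j ∈ range n, f j * 2 ^ (w * j)` with `f j < 2 ^ w`: slices, bit operations, truncation, lane sums, periodic tables by
division, signed lanes and polynomials.
-/

set_option autoImplicit false

namespace Cfsg.Agent.Depth.L

open Finset Polynomial

variable {w : ℕ} {f g : ℕ → ℕ} {n : ℕ}

theorem lanes_split (w : ℕ) (f : ℕ → ℕ) (a b : ℕ) : ∑ j ∈ range (a + b), f j * 2 ^ (w * j) =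
    ∑ j ∈ range a, f j * 2 ^ (w * j) + 2 ^ (w * a) * ∑ j ∈ range b, f (a + j) * 2 ^ (w * j) := by
  rw [sum_range_add, mul_sum]
  exact congrArg _ (sum_congr rfl fun j _ => by rw [mul_add, pow_add]; ring)

theorem lanes_div (a b : ℕ) (h : ∀ j < a, f j < 2 ^ w) :
    (∑ j ∈ range (a + b), f j * 2 ^ (w * j)) / 2 ^ (w * a) = ∑ j ∈ range b, f (a + j) * 2 ^ (w * j) := by
  rw [lanes_split, Nat.add_mul_div_left _ _ (Nat.two_pow_pos _), Nat.div_eq_of_lt (lanes_lt a h), zero_add]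

theorem lanes_mod' (a b : ℕ) (h : ∀ j < a, f j < 2 ^ w) :
    (∑ j ∈ range (a + b), f j * 2 ^ (w * j)) % 2 ^ (w * a) = ∑ j ∈ range a, f j * 2 ^ (w * j) := by
  rw [lanes_split, Nat.add_mul_mod_self_left, Nat.mod_eq_of_lt (lanes_lt a h)]

/-- dropping the first `a` lanes -/
theorem lanes_shr {a : ℕ} (ha : a ≤ n) (h : ∀ j < a, f j < 2 ^ w) :
    (∑ j ∈ range n, f j * 2 ^ (w * j)) >>> (w * a) = ∑ j ∈ range (n - a), f (a + j) * 2 ^ (w * j) := by
  rw [Nat.shiftRight_eq_div_pow, ← lanes_div a (n - a) h, Nat.add_sub_cancel' ha]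

/-- keeping the first `a` lanes -/
theorem lanes_mod {a : ℕ} (ha : a ≤ n) (h : ∀ j < a, f j < 2 ^ w) :
    (∑ j ∈ range n, f j * 2 ^ (w * j)) % 1 <<< (w * a) = ∑ j ∈ range a, f j * 2 ^ (w * j) := by
  rw [Nat.one_shiftLeft, ← lanes_mod' a (n - a) h, Nat.add_sub_cancel' ha]

/-- one lane -/
theorem lanes_digit {a : ℕ} (ha : a < n) (h : ∀ j ≤ a, f j < 2 ^ w) :
    (∑ j ∈ range n, f j * 2 ^ (w * j)) >>> (w * a) % 1 <<< w = f a := by
  have h1 := lanes_mod (w := w) (f := fun j => f (a + j)) (n := n - a) (a := 1) (by omega) fun j hj => h _ (by omega)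
  rw [mul_one] at h1
  rw [lanes_shr ha.le fun j hj => h j hj.le, h1]
  simp

/-- concatenation -/
theorem lanes_append (w : ℕ) (f g : ℕ → ℕ) (a b : ℕ) :
    ∑ j ∈ range a, f j * 2 ^ (w * j) + (∑ j ∈ range b, g j * 2 ^ (w * j)) <<< (w * a) =
      ∑ j ∈ range (a + b), (if j < a then f j else g (j - a)) * 2 ^ (w * j) := by
  rw [lanes_split, Nat.shiftLeft_eq, mul_comm]
  congr 1
  · exact sum_congr rfl fun j hj => by rw [if_pos (mem_range.1 hj)]
  · exact congrArg _ (sum_congr rfl fun j _ => by rw [if_neg (by omega), Nat.add_sub_cancel_left])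

theorem lanes_inj (hf : ∀ j < n, f j < 2 ^ w) (hg : ∀ j < n, g j < 2 ^ w)
    (h : ∑ j ∈ range n, f j * 2 ^ (w * j) = ∑ j ∈ range n, g j * 2 ^ (w * j)) {a : ℕ} (ha : a < n) : f a = g a := by
  rw [← lanes_digit ha fun j hj => hf j (by omega), h, lanes_digit ha fun j hj => hg j (by omega)]

/-- every number is written in lanes -/
theorem lanes_self (w n x : ℕ) : ∑ j ∈ range n, x / 2 ^ (w * j) % 2 ^ w * 2 ^ (w * j) = x % 2 ^ (w * n) := by
  induction n with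
  | zero => simp [Nat.mod_one]
  | succ n ih => rw [sum_range_succ, ih, Nat.mul_succ, pow_add, Nat.mod_mul, mul_comm (2 ^ (w * n))]

theorem lanes_land (hw : 0 < w) (hf : ∀ j < n, f j < 2 ^ w) (hg : ∀ j < n, g j < 2 ^ w) :
    (∑ j ∈ range n, f j * 2 ^ (w * j)) &&& ∑ j ∈ range n, g j * 2 ^ (w * j) = ∑ j ∈ range n, (f j &&& g j) * 2 ^ (w * j) :=
  Nat.eq_of_testBit_eq fun b => by
    rw [Nat.testBit_and, testBit_lanes hw n hf, testBit_lanes hw n hg,
      testBit_lanes hw n fun j hj => Nat.and_lt_two_pow _ (hg j hj), Nat.testBit_and]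
    cases decide (b / w < n) <;> simp

theorem lanes_lor (hw : 0 < w) (hf : ∀ j < n, f j < 2 ^ w) (hg : ∀ j < n, g j < 2 ^ w) :
    (∑ j ∈ range n, f j * 2 ^ (w * j)) ||| ∑ j ∈ range n, g j * 2 ^ (w * j) = ∑ j ∈ range n, (f j ||| g j) * 2 ^ (w * j) :=
  Nat.eq_of_testBit_eq fun b => by
    rw [Nat.testBit_or, testBit_lanes hw n hf, testBit_lanes hw n hg,
      testBit_lanes hw n fun j hj => Nat.or_lt_two_pow (hf j hj) (hg j hj), Nat.testBit_or]
    cases decide (b / w < n) <;> simp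

theorem lanes_xor (hw : 0 < w) (hf : ∀ j < n, f j < 2 ^ w) (hg : ∀ j < n, g j < 2 ^ w) :
    (∑ j ∈ range n, f j * 2 ^ (w * j)) ^^^ ∑ j ∈ range n, g j * 2 ^ (w * j) = ∑ j ∈ range n, (f j ^^^ g j) * 2 ^ (w * j) :=
  Nat.eq_of_testBit_eq fun b => by
    rw [Nat.testBit_xor, testBit_lanes hw n hf, testBit_lanes hw n hg,
      testBit_lanes hw n fun j hj => Nat.xor_lt_two_pow (hf j hj) (hg j hj), Nat.testBit_xor]
    cases decide (b / w < n) <;> simp

/-- `land` with a shorter number -/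
theorem lanes_land_le (hw : 0 < w) {m : ℕ} (hm : m ≤ n) (hf : ∀ j < n, f j < 2 ^ w) (hg : ∀ j < m, g j < 2 ^ w) :
    (∑ j ∈ range n, f j * 2 ^ (w * j)) &&& ∑ j ∈ range m, g j * 2 ^ (w * j) = ∑ j ∈ range m, (f j &&& g j) * 2 ^ (w * j) :=
  Nat.eq_of_testBit_eq fun b => by
    rw [Nat.testBit_and, testBit_lanes hw n hf, testBit_lanes hw m hg,
      testBit_lanes hw m fun j hj => Nat.and_lt_two_pow _ (hg j hj), Nat.testBit_and]
    by_cases h : b / w < m
    · rw [decide_eq_true h, decide_eq_true (h.trans_le hm)]; simp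
    · simp [h]

/-- the bits `s ≤ · < s + r` of the lanes `a ≤ · < a + m` -/
theorem lanes_field (hw : 0 < w) {s r a m : ℕ} (hs : s + r ≤ w) (hm : a + m ≤ n) (hf : ∀ j < n, f j < 2 ^ w) :
    (∑ j ∈ range n, f j * 2 ^ (w * j)) >>> (w * a + s) &&& ∑ j ∈ range m, (2 ^ r - 1) * 2 ^ (w * j) =
      ∑ j ∈ range m, f (a + j) / 2 ^ s % 2 ^ r * 2 ^ (w * j) := by
  have hr : 2 ^ r ≤ 2 ^ w := Nat.pow_le_pow_right two_pos (by omega)
  have h0 := Nat.two_pow_pos r
  refine Nat.eq_of_testBit_eq fun b => ?_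
  rw [Nat.testBit_and, Nat.testBit_shiftRight, testBit_lanes hw n hf, testBit_lanes hw m fun _ _ => by omega,
    testBit_lanes hw m fun j _ => (Nat.mod_lt _ h0).trans_le hr, Nat.testBit_two_pow_sub_one, Nat.testBit_mod_two_pow,
    Nat.testBit_div_two_pow]
  by_cases h1 : b % w < r
  · have h2 : w * a + s + b = w * (a + b / w) + (b % w + s) := by
      have := Nat.div_add_mod b w
      rw [mul_add]; omega
    rw [h2, Nat.mul_add_div hw, Nat.mul_add_mod, Nat.div_eq_of_lt (show b % w + s < w by omega),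
      Nat.mod_eq_of_lt (show b % w + s < w by omega), add_zero]
    by_cases h3 : b / w < m
    · rw [decide_eq_true h3, decide_eq_true h1, decide_eq_true (show a + b / w < n by omega)]; simp
    · simp [h3]
  · simp [h1]

/-- truncation of all lanes -/
theorem lanes_trunc (hw : 0 < w) {s : ℕ} (hs : s ≤ w) (hf : ∀ j < n, f j < 2 ^ w) :
    (∑ j ∈ range n, f j * 2 ^ (w * j)) >>> s &&& ∑ j ∈ range n, (2 ^ (w - s) - 1) * 2 ^ (w * j) =
      ∑ j ∈ range n, f j / 2 ^ s * 2 ^ (w * j) := by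
  have h := lanes_field hw (s := s) (r := w - s) (a := 0) (m := n) (by omega) (by omega) hf
  simp only [mul_zero, zero_add] at h
  rw [h]
  refine sum_congr rfl fun j hj => ?_
  rw [Nat.mod_eq_of_lt]
  rw [Nat.div_lt_iff_lt_mul (Nat.two_pow_pos s), ← pow_add, Nat.sub_add_cancel hs]
  exact hf j (mem_range.1 hj)

theorem mask_mul (w n c : ℕ) : (∑ j ∈ range n, 2 ^ (w * j)) * c = ∑ j ∈ range n, c * 2 ^ (w * j) := by
  rw [sum_mul]; exact sum_congr rfl fun _ _ => mul_comm _ _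

theorem lanes_mul (w n c : ℕ) (f : ℕ → ℕ) :
    (∑ j ∈ range n, f j * 2 ^ (w * j)) * c = ∑ j ∈ range n, f j * c * 2 ^ (w * j) := by
  rw [sum_mul]; exact sum_congr rfl fun _ _ => mul_right_comm _ _ _

theorem lanes_add (w n : ℕ) (f g : ℕ → ℕ) :
    ∑ j ∈ range n, f j * 2 ^ (w * j) + ∑ j ∈ range n, g j * 2 ^ (w * j) = ∑ j ∈ range n, (f j + g j) * 2 ^ (w * j) := by
  rw [← sum_add_distrib]; exact sum_congr rfl fun _ _ => (add_mul _ _ _).symm

theorem lanes_sub (w : ℕ) (h : ∀ j < n, g j ≤ f j) :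
    ∑ j ∈ range n, f j * 2 ^ (w * j) - ∑ j ∈ range n, g j * 2 ^ (w * j) = ∑ j ∈ range n, (f j - g j) * 2 ^ (w * j) := by
  rw [Nat.sub_eq_iff_eq_add (sum_le_sum fun j hj => Nat.mul_le_mul_right _ (h j (mem_range.1 hj))), lanes_add]
  exact sum_congr rfl fun j hj => by rw [Nat.sub_add_cancel (h j (mem_range.1 hj))]

/-- selection: `land` with `c` times a 0/1 vector -/
theorem lanes_select (hw : 0 < w) {r : ℕ} (hr : r ≤ w) (hf : ∀ j < n, f j < 2 ^ r) (p : ℕ → Bool) :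
    (∑ j ∈ range n, f j * 2 ^ (w * j)) &&& (∑ j ∈ range n, (if p j then 1 else 0) * 2 ^ (w * j)) * (2 ^ r - 1) =
      ∑ j ∈ range n, (if p j then f j else 0) * 2 ^ (w * j) := by
  have hr' : 2 ^ r ≤ 2 ^ w := Nat.pow_le_pow_right two_pos hr
  have h0 := Nat.two_pow_pos r
  rw [lanes_mul, lanes_land hw (fun j hj => (hf j hj).trans_le hr') fun j _ => by split_ifs <;> omega]
  refine sum_congr rfl fun j hj => ?_
  cases p j
  · simp
  · simp [Nat.and_two_pow_sub_one_eq_mod, Nat.mod_eq_of_lt (hf j (mem_range.1 hj))]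

/-! ### lane sums -/

theorem lanes_modEq (w n : ℕ) (f : ℕ → ℕ) : ∑ j ∈ range n, f j * 2 ^ (w * j) ≡ ∑ j ∈ range n, f j [MOD 2 ^ w - 1] := by
  have h : 2 ^ w ≡ 1 [MOD 2 ^ w - 1] := ((Nat.modEq_iff_dvd' Nat.one_le_two_pow).2 dvd_rfl).symm
  refine Nat.ModEq.sum fun j _ => ?_
  simpa [pow_mul] using (h.pow j).mul_left (f j)

theorem lanes_sum (h : ∑ j ∈ range n, f j < 2 ^ w - 1) :
    (∑ j ∈ range n, f j * 2 ^ (w * j)) % (2 ^ w - 1) = ∑ j ∈ range n, f j :=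
  Eq.trans (lanes_modEq w n f) (Nat.mod_eq_of_lt h)

theorem lanes_sum_of_le {b : ℕ} (hf : ∀ j < n, f j ≤ b) (h : n * b < 2 ^ w - 1) :
    (∑ j ∈ range n, f j * 2 ^ (w * j)) % (2 ^ w - 1) = ∑ j ∈ range n, f j :=
  lanes_sum (lt_of_le_of_lt (by simpa using sum_le_card_nsmul _ _ b fun j hj => hf j (mem_range.1 hj)) h)

/-! ### tables by division -/

theorem mask_mul_pred (w n : ℕ) : (∑ j ∈ range n, 2 ^ (w * j)) * (2 ^ w - 1) + 1 = 2 ^ (w * n) := by
  obtain ⟨x, hx⟩ : ∃ x, 2 ^ w = x + 1 := ⟨2 ^ w - 1, (Nat.sub_add_cancel Nat.one_le_two_pow).symm⟩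
  simp only [pow_mul, hx, Nat.add_sub_cancel]
  exact geom_sum_mul_add x n

theorem mask_div (hw : 0 < w) (n : ℕ) : (1 <<< (w * n) - 1) / (2 ^ w - 1) = ∑ j ∈ range n, 2 ^ (w * j) := by
  have := Nat.one_lt_two_pow hw.ne'
  rw [Nat.one_shiftLeft, ← mask_mul_pred w n, Nat.add_sub_cancel, Nat.mul_div_cancel _ (by omega)]

/-- the generating function of a sequence with `F (q + j) = F j + E j`, in any commutative ring -/
theorem shift_id {R : Type*} [CommRing R] (B : R) {F E : ℕ → R} {q : ℕ} (h : ∀ j, F (q + j) = F j + E j) (L : ℕ) :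
    (B ^ q - 1) * ∑ j ∈ range L, F j * B ^ j =
      B ^ L * ∑ j ∈ range q, F (L + j) * B ^ j - ∑ j ∈ range q, F j * B ^ j - B ^ q * ∑ j ∈ range L, E j * B ^ j := by
  have h1 := sum_range_add (fun j => F j * B ^ j) L q
  have h2 := sum_range_add (fun j => F j * B ^ j) q L
  rw [add_comm q L, h1] at h2
  have h3 : ∑ j ∈ range q, F (L + j) * B ^ (L + j) = B ^ L * ∑ j ∈ range q, F (L + j) * B ^ j := by
    rw [mul_sum]; exact sum_congr rfl fun j _ => by ring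
  have h4 : ∑ j ∈ range L, F (q + j) * B ^ (q + j) = B ^ q * ∑ j ∈ range L, F j * B ^ j + B ^ q * ∑ j ∈ range L, E j * B ^ j := by
    rw [mul_sum, mul_sum, ← sum_add_distrib]; exact sum_congr rfl fun j _ => by rw [h]; ring
  linear_combination h3 - h4 - h2

/-- periodic sequences -/
theorem per_id {R : Type*} [CommRing R] (B : R) {F : ℕ → R} {q : ℕ} (h : ∀ j, F (q + j) = F j) (L : ℕ) :
    (B ^ q - 1) * ∑ j ∈ range L, F j * B ^ j = B ^ L * ∑ j ∈ range q, F (L + j) * B ^ j - ∑ j ∈ range q, F j * B ^ j := by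
  simpa using shift_id B (F := F) (E := fun _ => 0) (fun j => by rw [h, add_zero]) L

/-- a linear function times a periodic sequence -/
theorem ramp_id {R : Type*} [CommRing R] (B a b : R) {F : ℕ → R} {q : ℕ} (h : ∀ j, F (q + j) = F j) (L : ℕ) :
    (B ^ q - 1) ^ 2 * ∑ j ∈ range L, (a + b * j) * F j * B ^ j =
      B ^ L * ((B ^ q - 1) * ∑ j ∈ range q, (a + b * (L + j : ℕ)) * F (L + j) * B ^ j -
          B ^ q * (b * q) * ∑ j ∈ range q, F (L + j) * B ^ j) -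
        ((B ^ q - 1) * ∑ j ∈ range q, (a + b * j) * F j * B ^ j - B ^ q * (b * q) * ∑ j ∈ range q, F j * B ^ j) := by
  have h1 := shift_id B (F := fun j => (a + b * j) * F j) (E := fun j => b * q * F j) (q := q)
    (fun j => by rw [h, Nat.cast_add]; ring) L
  have h2 := per_id B h L
  have h3 : ∑ j ∈ range L, b * q * F j * B ^ j = b * q * ∑ j ∈ range L, F j * B ^ j := by
    rw [mul_sum]; exact sum_congr rfl fun j _ => by ring
  rw [h3] at h1
  linear_combination (B ^ q - 1) * h1 - B ^ q * (b * q) * h2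

theorem lanes_lt_pred {q : ℕ} (hq : 0 < q) (h : ∀ j < q, f j < 2 ^ w - 1) :
    ∑ j ∈ range q, f j * 2 ^ (w * j) < 2 ^ (w * q) - 1 := by
  rw [← mask_mul_pred w q, Nat.add_sub_cancel, mask_mul]
  exact sum_lt_sum_of_nonempty ⟨0, mem_range.2 hq⟩ fun j hj =>
    Nat.mul_lt_mul_of_pos_right (h j (mem_range.1 hj)) (Nat.two_pow_pos _)

/-- a periodic table by one division -/
theorem per_div {q : ℕ} (hq : 0 < q) (hp : ∀ j, f (q + j) = f j) (h : ∀ j < q, f j < 2 ^ w - 1) (L : ℕ) :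
    (∑ j ∈ range q, f (L + j) * 2 ^ (w * j)) <<< (w * L) / (1 <<< (w * q) - 1) = ∑ j ∈ range L, f j * 2 ^ (w * j) := by
  have h1 := lanes_split w f L q
  have h2 := lanes_split w f q L
  have h3 := lanes_lt_pred hq h
  simp only [hp] at h2
  rw [add_comm q L, h1] at h2
  rw [Nat.shiftLeft_eq, Nat.one_shiftLeft, mul_comm]
  obtain ⟨D, hD⟩ : ∃ D, 2 ^ (w * q) = D + 1 := ⟨_, (Nat.sub_add_cancel Nat.one_le_two_pow).symm⟩
  rw [hD, Nat.add_sub_cancel] at h3 ⊢
  rw [hD, add_mul, one_mul] at h2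
  rw [show 2 ^ (w * L) * ∑ j ∈ range q, f (L + j) * 2 ^ (w * j) =
    ∑ j ∈ range q, f j * 2 ^ (w * j) + D * ∑ j ∈ range L, f j * 2 ^ (w * j) by omega,
    Nat.add_mul_div_left _ _ (by omega), Nat.div_eq_of_lt h3, zero_add]

/-! ### signed lanes, polynomials -/

theorem eval_pol (n : ℕ) (c : ℕ → ℤ) (B : ℤ) : (pol n c).eval B = ∑ j ∈ range n, c j * B ^ j := by
  simp [pol, eval_finsetSum]

theorem eval_lanes {P : ℤ[X]} (hP : P.natDegree < n) (w : ℕ) :
    P.eval (2 ^ w) = ∑ j ∈ range n, P.coeff j * 2 ^ (w * j) := by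
  simp only [eval_eq_sum_range' hP, pow_mul]

theorem eval_reflect_pol (N : ℕ) (c : ℕ → ℤ) (B : ℤ) :
    (reflect N (pol (N + 1) c)).eval B = ∑ j ∈ range (N + 1), c (N - j) * B ^ j := by
  have h : (reflect N (pol (N + 1) c)).natDegree < N + 1 :=
    Nat.lt_succ_of_le (natDegree_reflect_le.trans (max_le le_rfl (natDegree_pol N c)))
  rw [eval_eq_sum_range' h]
  refine sum_congr rfl fun j hj => ?_
  rw [coeff_reflect, revAt_le (Nat.lt_succ_iff.1 (mem_range.1 hj)), coeff_pol, if_pos (by omega)]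

/-- signed lanes with an offset -/
theorem signed_lanes {c : ℕ → ℤ} {o x : ℕ} (hc : ∀ j < n, -(o : ℤ) ≤ c j)
    (hx : (x : ℤ) = ∑ j ∈ range n, c j * 2 ^ (w * j) + ((∑ j ∈ range n, 2 ^ (w * j)) * o : ℕ)) :
    x = ∑ j ∈ range n, (c j + o).toNat * 2 ^ (w * j) := by
  refine Int.natCast_inj.1 (hx.trans ?_)
  rw [mask_mul]
  push_cast
  rw [← sum_add_distrib]
  exact sum_congr rfl fun j hj => by
    rw [Int.toNat_of_nonneg (by have := hc j (mem_range.1 hj); omega), add_mul]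

theorem toNat_lt {c : ℤ} {o : ℕ} (h : c + o < 2 ^ w) : (c + o).toNat < 2 ^ w := by
  have : (0 : ℤ) < 2 ^ w := by positivity
  rw [Int.toNat_lt' (Nat.two_pow_pos w)]
  exact_mod_cast h

/-- rounding: `c = 2 ^ s * h + e` with `|e| ≤ 2 ^ (s - 1)`, read from the lane `c + 2 ^ s * o + 2 ^ (s - 1)` -/
theorem round_err {c : ℤ} {s o : ℕ} (h : -((2 ^ (s + 1) * o + 2 ^ s : ℕ) : ℤ) ≤ c) :
    |c - 2 ^ (s + 1) * ((((c + (2 ^ (s + 1) * o + 2 ^ s : ℕ)).toNat / 2 ^ (s + 1) : ℕ) : ℤ) - o)| ≤ 2 ^ s := by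
  obtain ⟨y, hy⟩ : ∃ y : ℕ, c + (2 ^ (s + 1) * o + 2 ^ s : ℕ) = y := ⟨_, (Int.toNat_of_nonneg (by omega)).symm⟩
  rw [hy, Int.toNat_natCast]
  have h1 : ((2 ^ (s + 1) * (y / 2 ^ (s + 1)) + y % 2 ^ (s + 1) : ℕ) : ℤ) = y := by rw [Nat.div_add_mod]
  have h2 : ((y % 2 ^ (s + 1) : ℕ) : ℤ) < (2 ^ (s + 1) : ℕ) := Int.ofNat_lt.2 (Nat.mod_lt _ (Nat.two_pow_pos _))
  have h3 : (0 : ℤ) ≤ (y % 2 ^ (s + 1) : ℕ) := Int.natCast_nonneg _
  generalize y / 2 ^ (s + 1) = d at h1 ⊢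
  generalize y % 2 ^ (s + 1) = r at h1 h2 h3
  push_cast at hy h1 h2
  rw [pow_succ] at *
  rw [abs_le]
  constructor <;> linarith

/-- crude a priori bound -/
theorem coeff_mul_le {P Q : ℤ[X]} {a b : ℤ} (hP : P.natDegree < n) (ha : ∀ j, |P.coeff j| ≤ a) (hb : ∀ j, |Q.coeff j| ≤ b)
    (k : ℕ) : |(P * Q).coeff k| ≤ n * (a * b) := by
  have h0 : 0 ≤ b := (abs_nonneg _).trans (hb 0)
  rw [mul_comm, P.as_sum_range_C_mul_X_pow' hP, mul_sum, finsetSum_coeff]
  refine (abs_sum_le_sum_abs _ _).trans ((sum_le_card_nsmul _ _ (a * b) fun j _ => ?_).trans (by simp))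
  rw [← mul_assoc, coeff_mul_X_pow', coeff_mul_C]
  split_ifs
  · rw [abs_mul, mul_comm]
    exact mul_le_mul (ha _) (hb _) (abs_nonneg _) ((abs_nonneg _).trans (ha 0))
  · simpa using mul_nonneg ((abs_nonneg _).trans (ha 0)) h0

/-- Cauchy-Schwarz bound -/
theorem coeff_mul_sq_le {P Q : ℤ[X]} {m : ℕ} (hP : P.natDegree < n) (hQ : Q.natDegree < m) (k : ℕ) :
    (P * Q).coeff k ^ 2 ≤ (∑ j ∈ range n, P.coeff j ^ 2) * ∑ j ∈ range m, Q.coeff j ^ 2 := by
  have key : ∀ {R : ℤ[X]} {l : ℕ}, R.natDegree < l → ∑ j ∈ range (k + 1), R.coeff j ^ 2 ≤ ∑ j ∈ range l, R.coeff j ^ 2 := by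
    intro R l hR
    rcases le_total (k + 1) l with h | h
    · exact sum_le_sum_of_subset_of_nonneg (range_mono h) fun _ _ _ => sq_nonneg _
    · exact (sum_subset (range_mono h) fun j _ hj => by
        rw [coeff_eq_zero_of_natDegree_lt (hR.trans_le (by simpa using hj)), zero_pow two_ne_zero]).ge
  rw [coeff_mul, Nat.sum_antidiagonal_eq_sum_range_succ (fun i j => P.coeff i * Q.coeff j)]
  refine (sum_mul_sq_le_sq_mul_sq _ _ _).trans (mul_le_mul (key hP) ?_ (sum_nonneg fun _ _ => sq_nonneg _)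
    (sum_nonneg fun _ _ => sq_nonneg _))
  exact (sum_flip fun j => Q.coeff j ^ 2).trans_le (key hQ)

/-- the middle coefficient of a product with the reversed vector -/
theorem coeff_mul_reflect (N : ℕ) (c d : ℕ → ℤ) :
    (pol (N + 1) c * reflect N (pol (N + 1) d)).coeff N = ∑ j ∈ range (N + 1), c j * d j := by
  rw [coeff_mul, Nat.sum_antidiagonal_eq_sum_range_succ (fun i j => (pol (N + 1) c).coeff i * (reflect N (pol (N + 1) d)).coeff j)]
  refine sum_congr rfl fun j hj => ?_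
  have hj := mem_range.1 hj
  rw [coeff_reflect, revAt_le (by omega), coeff_pol, coeff_pol, if_pos hj, if_pos (by omega), Nat.sub_sub_self (by omega)]

/-- all coefficients of the autocorrelation are bounded by the middle one -/
theorem abs_auto_le (N : ℕ) (c : ℕ → ℤ) (k : ℕ) :
    |(pol (N + 1) c * reflect N (pol (N + 1) c)).coeff k| ≤ ∑ j ∈ range (N + 1), c j ^ 2 := by
  have h1 : (pol (N + 1) c).natDegree < N + 1 := Nat.lt_succ_of_le (natDegree_pol N c)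
  have h2 : (reflect N (pol (N + 1) c)).natDegree < N + 1 :=
    Nat.lt_succ_of_le (natDegree_reflect_le.trans (max_le le_rfl (natDegree_pol N c)))
  have h := coeff_mul_sq_le h1 h2 k
  have e1 : ∑ j ∈ range (N + 1), (pol (N + 1) c).coeff j ^ 2 = ∑ j ∈ range (N + 1), c j ^ 2 :=
    sum_congr rfl fun j hj => by rw [coeff_pol, if_pos (mem_range.1 hj)]
  have e2 : ∑ j ∈ range (N + 1), (reflect N (pol (N + 1) c)).coeff j ^ 2 = ∑ j ∈ range (N + 1), c j ^ 2 := by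
    rw [← sum_flip fun j => c j ^ 2]
    exact sum_congr rfl fun j hj => by
      rw [coeff_reflect, revAt_le (Nat.lt_succ_iff.1 (mem_range.1 hj)), coeff_pol, if_pos (by omega)]
  rw [e1, e2, ← sq] at h
  exact abs_le_of_sq_le_sq h (sum_nonneg fun _ _ => sq_nonneg _)

/-- the autocorrelation is symmetric -/
theorem auto_symm (N : ℕ) (c : ℕ → ℤ) {k : ℕ} (hk : k ≤ 2 * N) :
    (pol (N + 1) c * reflect N (pol (N + 1) c)).coeff (2 * N - k) = (pol (N + 1) c * reflect N (pol (N + 1) c)).coeff k := by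
  have h := reflect_mul (pol (N + 1) c) (reflect N (pol (N + 1) c)) (natDegree_pol N c)
    (natDegree_reflect_le.trans (max_le le_rfl (natDegree_pol N c)))
  rw [reflect_reflect, mul_comm (reflect _ _), ← two_mul] at h
  rw [← revAt_le hk, ← coeff_reflect, h]

end Cfsg.Agent.Depth.L
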