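import Cfsg.Agent.Depth.L.Iface

/-!
# Depth L: the kernel machine (definitions), lanes of 56 bits (helper59)
-/

set_option autoImplicit false

namespace Cfsg.Agent.Depth.L

/-- `∑ k < m, f (r + p k) * 2^(56 (r + p k))` -/
def lz (f : ℕ → ℤ) (r p m : ℕ) : ℤ :=
  Nat.rec (motive := fun _ => ℤ) 0 (fun k a => Int.add a (Int.mul (f (Nat.add r (Nat.mul p k)))
    (Int.ofNat (Nat.shiftLeft 1 (Nat.mul 56 (Nat.add r (Nat.mul p k))))))) m

/-- `B^q - 1` -/
def EE (q : ℕ) : ℤ := Int.ofNat (Nat.pred (Nat.shiftLeft 1 (Nat.mul 56 q)))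

/-- values from `L` with step `δ` -/
def z0 (w : ℕ → ℤ) (δ L r p m : ℕ) : ℤ := lz (fun j => w (Nat.add L (Nat.mul δ j))) r p m

/-- values from `L` with step `δ`, weighted by the index -/
def z1 (w : ℕ → ℤ) (δ L r p m : ℕ) : ℤ := lz (fun j => Int.mul (Int.ofNat j) (w (Nat.add L (Nat.mul δ j)))) r p m

/-- boundary term of the slope from the two sums -/
def nB (q : ℕ) (S0 S1 : ℤ) : ℤ := Int.sub (Int.mul (EE q) S1) (Int.mul (Int.mul (Int.ofNat q) (Int.add (EE q) 1)) S0)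

/-- components: period and the two boundary terms -/
abbrev Cp := ℕ × (ℕ → ℤ) × (ℕ → ℤ)

/-- a periodic function given by all its values -/
def dense (δ q : ℕ) (w : ℕ → ℤ) : Cp :=
  (q, fun L => Int.mul (EE q) (z0 w δ L 0 1 q), fun L => nB q (z0 w δ L 0 1 q) (z1 w δ L 0 1 q))

/-- the index `r < p` with `L + δ r ≡ e`, where `ι δ ≡ 1` -/
def pos (ι p e L : ℕ) : ℕ := Nat.mod (Nat.mul (Nat.sub (Nat.add e p) (Nat.mod L p)) ι) p

/-- `((B^(p q) - 1) / (B^p - 1))²` -/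
def GG (p q : ℕ) : ℤ := (fun G => Int.mul G G) (Int.ediv (EE (Nat.mul p q)) (EE p))

/-- the function `wa l - [l % q ≤ 1] wb l` with `wa`, `wb` of period `p` -/
def pair (δ ι p q : ℕ) (wa wb : ℕ → ℤ) : Cp :=
  (Nat.mul p q,
    fun L => Int.sub (Int.mul (GG p q) ((dense δ p wa).2.1 L))
      (Int.mul (EE (Nat.mul p q)) (Int.add (z0 wb δ L (pos ι q 0 L) q p) (z0 wb δ L (pos ι q 1 L) q p))),
    fun L => Int.sub (Int.mul (GG p q) ((dense δ p wa).2.2 L))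
      (nB (Nat.mul p q) (Int.add (z0 wb δ L (pos ι q 0 L) q p) (z0 wb δ L (pos ι q 1 L) q p))
        (Int.add (z1 wb δ L (pos ι q 0 L) q p) (z1 wb δ L (pos ι q 1 L) q p))))

/-- `z * ∏ (B^q - 1)²` -/
def DD (z : ℤ) (l : List Cp) : ℤ :=
  List.rec (motive := fun _ => ℤ) z (fun c _ a => Int.mul a (Int.mul (EE c.1) (EE c.1))) l

/-- sum of the boundary terms over the common denominator -/
def NN (z : ℤ) (f : Cp → ℤ) (l : List Cp) : ℤ :=
  List.rec (motive := fun _ => ℤ) z (fun c t a => Int.add (Int.mul a (Int.mul (EE c.1) (EE c.1)))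
    (Int.mul (f c) (DD (Int.mul (EE 1) (EE 1)) t))) l

/-- boundary term at `L` of `off + (a + β j) ρ (L + δ j)` -/
def Ph (l : List Cp) (c0 off : ℤ) (L : ℕ) (a β : ℤ) : ℤ :=
  Int.add (Int.mul off (DD (EE 1) l))
    (NN (Int.mul (Int.sub (Int.mul a (EE 1)) (Int.mul β (Int.add (EE 1) 1))) c0)
      (fun c => Int.add (Int.mul a (c.2.1 L)) (Int.mul β (c.2.2 L))) l)

/-- the numerator of the table, without the last shift -/
def tnum (l : List Cp) (c0 off : ℤ) (l0 δ n x : ℕ) (α β α' β' : ℤ) : ℤ :=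
  Int.add (Int.ofNat (Nat.shiftLeft
      (Int.toNat (Ph l c0 off (Nat.add l0 (Nat.mul δ n)) (Int.add α' (Int.mul β' (Int.ofNat n))) β')) (Nat.mul 56 (Nat.sub n x))))
    (Ph l c0 0 (Nat.add l0 (Nat.mul δ x)) (Int.add (Int.sub α α') (Int.mul (Int.sub β β') (Int.ofNat x))) (Int.sub β β'))

/-- the table of `off + a j * ρ j`, `j < n`, `a` affine on `[0, x)` and on `[x, n)` -/
def tab (l : List Cp) (c0 off : ℤ) (l0 δ n x : ℕ) (α β α' β' : ℤ) : ℕ :=
  Nat.div (Nat.shiftLeft (Int.toNat (tnum l c0 off l0 δ n x α β α' β')) (Nat.mul 56 x))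
    (Int.toNat (DD (Int.mul (EE 1) (EE 1)) l))

/-- `0 ≤ z` -/
def nneg (z : ℤ) : Bool := Int.casesOn (motive := fun _ => Bool) z (fun _ => true) (fun _ => false)

/-- side conditions of `tab` -/
def tabOK (l : List Cp) (c0 off : ℤ) (l0 δ n x : ℕ) (α β α' β' : ℤ) : Bool :=
  and (nneg (Ph l c0 off (Nat.add l0 (Nat.mul δ n)) (Int.add α' (Int.mul β' (Int.ofNat n))) β'))
    (and (nneg (tnum l c0 off l0 δ n x α β α' β')) (and (nneg (Ph l c0 off l0 α β))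
      (Nat.blt (Int.toNat (Ph l c0 off l0 α β)) (Int.toNat (DD (Int.mul (EE 1) (EE 1)) l)))))

/-- weights mod 7 -/
def w7 (l : ℕ) : ℕ := Nat.mod (Nat.shiftRight 0x9585900 (Nat.mul 4 (Nat.mod l 7))) 16

/-- weights mod 11 -/
def w11 (l : ℕ) : ℕ := Nat.mod (Nat.shiftRight 0x85757575800 (Nat.mul 4 (Nat.mod l 11))) 16

/-- denominator of `omQ p - 1` -/
def dn (p : ℕ) : ℕ := cond (Nat.beq p 1) 1 (cond (Nat.beq p 7) 36 (cond (Nat.beq p 11) 57 (Nat.sub p 2)))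

/-- numerator of `omQ p - 1` (and `1` for `p = 1`) -/
def ph (p l : ℕ) : ℤ :=
  cond (Nat.beq p 1) 1 (cond (Nat.beq p 7) (Int.subNatNat (Nat.mul 7 (w7 l)) 36)
    (cond (Nat.beq p 11) (Int.subNatNat (Nat.mul 11 (w11 l)) 57)
      (cond (Nat.ble (Nat.mod l p) 1) (Int.subNatNat 2 p) 2)))

/-- `⌊k φ_p φ_q / d⌋` -/
def val (k p q d l : ℕ) : ℤ := Int.ediv (Int.mul (Int.ofNat k) (Int.mul (ph p l) (ph q l))) (Int.ofNat d)

/-- the moduli `p q` with `q ≥ 13` -/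
def PL : List (ℕ × ℕ) :=
  [(17, 23), (13, 29), (7, 53), (11, 31), (7, 47), (17, 19), (11, 29), (7, 43), (13, 23), (7, 41), (7, 37),
   (11, 23), (13, 19), (1, 223), (13, 17), (7, 31), (1, 211), (11, 19), (7, 29), (1, 199), (1, 197), (1, 193),
   (1, 191), (11, 17), (1, 181), (1, 179), (1, 173), (1, 167), (1, 163), (7, 23), (1, 157), (1, 151), (1, 149),
   (11, 13), (1, 139), (1, 137), (7, 19), (1, 131), (1, 127), (7, 17), (1, 113), (1, 109), (1, 107), (1, 103),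
   (1, 101), (1, 97), (7, 13), (1, 89), (1, 83), (1, 79), (1, 73), (1, 71), (1, 67), (1, 61), (1, 59),
   (1, 53), (1, 47), (1, 43), (1, 41), (1, 37), (1, 31), (1, 29), (1, 23), (1, 19), (1, 17), (1, 13)]

/-- the components of the model -/
def cM (K δ ι : ℕ) : List Cp :=
  List.rec (motive := fun _ => List Cp)
    [dense δ 77 (val K 7 11 2052), dense δ 11 (val K 11 1 57), dense δ 7 (val K 7 1 36)]
    (fun x _ t => pair δ ι x.1 x.2 (val (Nat.mul 2 K) x.1 1 (Nat.mul (dn x.1) (dn x.2)))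
      (val (Nat.mul x.2 K) x.1 1 (Nat.mul (dn x.1) (dn x.2))) :: t) PL

/-- the component of the weights -/
def cW (δ : ℕ) : List Cp := [dense δ 77 fun l => Int.ofNat (Nat.mul (w7 l) (w11 l))]

/-- product of the primes from 7 to 223 -/
def QQ : ℕ := 7 * 11 * 13 * 17 * 19 * 23 * 29 * 31 * 37 * 41 * 43 * 47 * 53 * 59 * 61 * 67 * 71 * 73 * 79 * 83 * 89 * 97 *
  101 * 103 * 107 * 109 * 113 * 127 * 131 * 137 * 139 * 149 * 151 * 157 * 163 * 167 * 173 * 179 * 181 * 191 * 193 *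
  197 * 199 * 211 * 223

/-- inverse of 60 mod `QQ` -/
def I60 : ℕ :=
  5912934568329236431936668000529980687696782819835900942202450696755363403346429082875

/-- all lanes `< n` equal to one -/
def ones (n : ℕ) : ℕ := Nat.div (Nat.pred (Nat.shiftLeft 1 (Nat.mul 56 n))) 72057594037927935

/-- lane `i` -/
def dig (V i : ℕ) : ℕ := Nat.land (Nat.shiftRight V (Nat.mul 56 i)) 72057594037927935

/-- parameters of a piece: the class, start, length `N + 1`, scale, break point, the two affine weights, end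
correction, bounds -/
structure Par where
  c1 : ℕ
  lo : ℕ
  N : ℕ
  K : ℕ
  x : ℕ
  α : ℤ
  β : ℤ
  α' : ℤ
  β' : ℤ
  a : ℤ
  b : ℤ
  a' : ℤ
  b' : ℤ
  κ : ℕ
  b2 : ℕ
  bc : ℕ
  bt : ℕ

/-- data of one direction -/
structure Dir where
  l0 : ℕ
  δ : ℕ
  ι : ℕ
  x : ℕ
  α : ℤ
  β : ℤ
  α' : ℤ
  β' : ℤ
  a : ℤ
  b : ℤ
  a' : ℤ
  b' : ℤ

/-- forward -/
def Par.fw (P : Par) : Dir := ⟨60 * P.lo + P.c1, 60, I60, P.x, P.α, P.β, P.α', P.β', P.a, P.b, P.a', P.b'⟩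

/-- backward -/
def Par.bw (P : Par) : Dir := ⟨60 * (P.lo + P.N) + P.c1, QQ - 60, QQ - I60, P.N + 1 - P.x, P.α' + P.β' * P.N, -P.β',
  P.α + P.β * P.N, -P.β, P.a' + P.b' * P.N, -P.b', P.a + P.b * P.N, -P.b⟩

/-- table of the model, offset `2^50 + 2^36` -/
def tM (K n : ℕ) (d : Dir) : ℕ :=
  tab (cM K d.δ d.ι) (Int.ofNat K) 1125968626319360 d.l0 d.δ n d.x d.α d.β d.α' d.β'

/-- the weights on the set given by `bits`, times `2^37` -/
def lamS (bits n : ℕ) (d : Dir) : ℕ :=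
  Nat.land (tab (cW d.δ) 0 36028797018963968 d.l0 d.δ n d.x d.a d.b d.a' d.b') (Nat.mul bits 9007061815787520)

/-- the vector `g` -/
def gv (on og bits K n : ℕ) (d : Dir) : ℕ :=
  Nat.shiftRight (Nat.sub (Nat.add (lamS bits n d) og) (Nat.land (tM K n d) (Nat.mul on 2251662374731776))) 37

/-- side conditions of `gv` -/
def gOK (on og bits K n : ℕ) (d : Dir) : Bool :=
  and (tabOK (cM K d.δ d.ι) (Int.ofNat K) 1125968626319360 d.l0 d.δ n d.x d.α d.β d.α' d.β')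
    (and (tabOK (cW d.δ) 0 36028797018963968 d.l0 d.δ n d.x d.a d.b d.a' d.b')
      (and (Nat.beq (Nat.land (tM K n d) (Nat.mul on 69805794224242688)) 0)
        (Nat.ble (Nat.land (tM K n d) (Nat.mul on 2251662374731776)) (Nat.add (lamS bits n d) og))))

/-- offset `2^40 + 2^24` -/
def oK (oN : ℕ) : ℕ := Nat.mul oN 1099528404992

/-- bits 25 to 40 of every lane -/
def tS (oN S : ℕ) : ℕ := Nat.land S (Nat.mul oN 2198989701120)

/-- bits 41 to 55 of every lane vanish -/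
def tOK (oN S : ℕ) : Bool := Nat.beq (Nat.land S (Nat.mul oN 72055395014672384)) 0

/-- sum of the lanes of `T / 2^25` -/
def lsum (T : ℕ) : ℕ := Nat.mod (Nat.mul (Nat.mod T 72057594037927935) 2147483648) 72057594037927935

/-- lane `i` of `V / 2^s` -/
def digS (V i s : ℕ) : ℕ := Nat.land (Nat.shiftRight V (Nat.add (Nat.mul 56 i) s)) 72057594037927935

/-- last level: `∑ τ² ≤ bt` -/
def lev3 (N bt T0 T1 T2 T3 : ℕ) : Bool :=
  Nat.ble (Nat.add (Nat.add (digS (Nat.mul T0 T3) (Nat.pred N) 50) (digS (Nat.mul T1 T2) (Nat.pred N) 50))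
    (Nat.mul N 2147483648)) (Nat.add bt (Nat.mul 65536 (Nat.add (lsum T0) (lsum T1))))

/-- second level, given the four partial sums -/
def lev2b (oN N bc bt S0 S1 R1 S2 S3 : ℕ) : Bool :=
  and (tOK oN S0) (and (tOK oN S1) (and (tOK oN S2) (and (tOK oN S3) (and (Nat.ble (dig R1 0) bc)
    (lev3 N bt (tS oN S0) (tS oN S1) (tS oN S2) (tS oN S3))))))

/-- second level -/
def lev2 (oN N bc bt A U : ℕ) : Bool :=
  (fun S0 => (fun S1 => (fun R1 => (fun S2 =>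
    lev2b oN N bc bt S0 S1 R1 S2 (Nat.add (Nat.shiftRight S2 (Nat.mul 56 N)) (oK oN)))
      (Nat.add (Nat.add (Nat.shiftRight R1 56) (oK oN)) (Nat.mul U (Nat.shiftLeft U 56))))
      (Nat.shiftRight S1 (Nat.mul 56 N)))
      (Nat.add (Nat.add (Nat.shiftRight S0 (Nat.mul 56 N)) (oK oN)) (Nat.mul A (Nat.shiftLeft U 57))))
      (Nat.add (Nat.mul A A) (oK oN))

/-- first level, given the partial sums -/
def lev1b (oN N bc bt S0 S1 p A' U' : ℕ) : Bool :=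
  and (tOK oN S0) (and (tOK oN S1) (and (Nat.ble p 8388608) (and (Nat.ble (Nat.shiftLeft oN 15) A')
    (and (Nat.ble (Nat.shiftLeft oN 15) U')
      (lev2 oN N bc bt (Nat.sub A' (Nat.shiftLeft oN 15)) (Nat.sub U' (Nat.shiftLeft oN 15)))))))

/-- first level -/
def lev1 (oN N bc bt Gf Gr : ℕ) : Bool :=
  (fun S0 => (fun R0 => (fun S1 => (fun p =>
    lev1b oN N bc bt S0 S1 p (Nat.add (Nat.shiftRight (tS oN S0) 25) (Nat.shiftLeft p (Nat.mul 56 N)))
      (Nat.shiftRight (tS oN S1) 25))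
      (Nat.shiftRight (Nat.add (dig R0 0) 16777216) 25))
      (Nat.add (Nat.shiftRight R0 56) (oK oN)))
      (Nat.shiftRight S0 (Nat.mul 56 N)))
      (Nat.add (Nat.mul Gf Gr) (oK oN))

/-- offset of `g` with the end correction, times `2^37` -/
def og (on N κ : ℕ) : ℕ :=
  Nat.add (Nat.add (Nat.shiftLeft on 50) (Nat.shiftLeft κ 37)) (Nat.shiftLeft κ (Nat.add (Nat.mul 56 N) 37))

/-- the run; `on` is `ones (N + 1)`, `bf` and `br` are the lanes of the safe primes and their reversal -/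
def run (P : Par) (on bf br : ℕ) : Bool :=
  and (gOK on (og on P.N P.κ) bf P.K (Nat.succ P.N) P.fw) (and (gOK on (og on P.N P.κ) br P.K (Nat.succ P.N) P.bw)
    (and (Nat.ble (digS (Nat.mul (lamS bf (Nat.succ P.N) P.fw) (lamS br (Nat.succ P.N) P.bw)) P.N 74) P.b2)
      (lev1 (Nat.shiftRight on 56) P.N P.bc P.bt (gv on (og on P.N P.κ) bf P.K (Nat.succ P.N) P.fw)
        (gv on (og on P.N P.κ) br P.K (Nat.succ P.N) P.bw))))

/-- the number with lanes `f 0, …, f (n - 1)` -/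
def enc (n : ℕ) (f : ℕ → ℤ) : ℤ := ∑ j ∈ Finset.range n, f j * 2 ^ (56 * j)

/-- affine on `[0, x)` and on `[x, ∞)` -/
def seg (x : ℕ) (α β α' β' : ℤ) (j : ℕ) : ℤ := if j < x then α + β * j else α' + β' * j

/-- the table of the model -/
def BoxTab : Prop :=
  ∀ K : ℕ, ∃ ρ : ℕ → ℤ, (∀ l l', l ≡ l' [MOD QQ] → ρ l = ρ l') ∧ (∀ l, |(ρ l : ℝ) - K * (rhoQ l : ℝ)| ≤ 69) ∧
    (∀ l, |ρ l| ≤ 70 * K + 69) ∧
    ∀ (δ ι : ℕ) (off : ℤ) (l0 n x : ℕ) (α β α' β' : ℤ), δ * ι % QQ = 1 → x ≤ n →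
      tabOK (cM K δ ι) (Int.ofNat K) off l0 δ n x α β α' β' = true →
      (tab (cM K δ ι) (Int.ofNat K) off l0 δ n x α β α' β' : ℤ) =
        enc n fun j => off + seg x α β α' β' j * ρ (l0 + δ * j)

/-- the table of the weights -/
def BoxTabW : Prop :=
  ∃ ω : ℕ → ℤ, (∀ l l', l ≡ l' [MOD QQ] → ω l = ω l') ∧ (∀ l, |ω l| ≤ 72) ∧
    ∀ (δ : ℕ) (off : ℤ) (l0 n x : ℕ) (α β α' β' : ℤ), x ≤ n → tabOK (cW δ) 0 off l0 δ n x α β α' β' = true →
      (tab (cW δ) 0 off l0 δ n x α β α' β' : ℤ) = enc n fun j => off + seg x α β α' β' j * ω (l0 + δ * j)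

end Cfsg.Agent.Depth.L
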