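import Cfsg.Agent.Depth.F.Bin

/-!
# Depth L: certified bit sets of safe primes (helper46)

Bit `b` of `x` stands for the number `lab w M t0 b = (b % w) * M + (b / w) * 60 + t0` (transposed layout with `w` blocks).
`SB w M x t0`: every set bit stands for a safe prime.  `chk` is the kernel checker, `SB.join` glues chunks.
-/

set_option autoImplicit false

namespace Cfsg.Agent.Depth.L

open Cfsg.Agent.Depth.F

/-- the number at bit `b` -/
def lab (w M t0 b : ℕ) : ℕ := Nat.add (Nat.add (Nat.mul (Nat.mod b w) M) (Nat.mul (Nat.div b w) 60)) t0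

/-- `l * (l / 2)` -/
def dbl (l : ℕ) : ℕ := Nat.mul l (Nat.shiftRight l 1)

/-- the lowest set bit of `0 < x < 2 ^ 560` (no property is used) -/
def low (x : ℕ) : ℕ :=
  Nat.land (Nat.shiftRight 0x119468f946d8c3e99b470d9635113ecdf6716c47429369476397b448153f1ff380b9675e65b4b2478f10aa0e36de2520bf63c8e5f03c44d4c059373f61d80009385962e9846792779c455b8c32cd5b47d523c9cf0ae2783d893717878ddf52593302246409923c585f49c0f5c6450ec5356105c924e1ba3f966878d18045b029a3389ee65c112ed80615c267ca74a0887a09f118ab5bd093106e2d040570694801c54dd63cdc97412c0b0518a08084117628d7374275e5fd790ef7808c52a1b65125305508957664497268ea24164165ec5f8a5275070f81a71c4f454253b61953895588a30602324c214e53b6edad3fd3d59d3287dbd3484a809af1703602d016920738d3f7be2f66169048af2f1346055861a2170db7681bf2a0664a4d4225737a44c281aa11e042b1b45c1b1428793145e1bd0d2d438105db5740d1a87c4850307432551a675cc83d209728cc744e54b4610b541149f78a5f12047284400460f862d9a361103796b0a1465e8147f8b8794b13c20d784be2343b52d368700865583498443095a545ce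899885ddde64a232605726dc53ad60245b9594d0169a27b4105fdc129887278aa4206d0fc6806dd57212b1407f458d6099fc3b88b8692453d75258e958deb291060644e09218250a2088204e9ac4f1316f0496b835402064fa2e5a0ae4cd57881b66f86534d7212da980db36c0781750c0ddda0307b40831694c7820cb39060501f67c071000f76650f5a94504cb72c20c2f43a4d40760843565cd61ddd888567115f6e0cf6840f700862a46c19dd44a87e355fb229235d0e87a905136172841f6ad30120348162d2b5566d4645c5a86c87742dd91e830318ca17df51c0f6439442da0b0e406109cc77055578ce038851add31f5fa488e7412160792f0ce2c5546369c767602f325f43d5438280572c5433484749f939a154ba2b188750b9f35080414c837e2148a8747c80320a131cc028480100000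
    (Nat.mul (Nat.mod (Nat.gcd x 0x100000000000000000000000000000000000000000000000000000000000000000000000000000000000000000000000000000000000000000000000000000000000000000000) 563) 10)) 1023

/-- a multiple of `dbl (lab b)` for all set bits `b` of `x` -/
def leaf (w M t0 fuel : ℕ) : ℕ → ℕ → ℕ :=
  Nat.rec (motive := fun _ => ℕ → ℕ → ℕ) (fun x acc => cond (Nat.beq x 0) acc 0)
    (fun _ ih x acc => cond (Nat.beq x 0) acc
      ((fun b => ih (Nat.xor x (Nat.shiftLeft 1 b)) (Nat.mul acc (dbl (lab w M t0 b)))) (low x))) fuel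

theorem leaf_spec (w M t0 fuel x acc : ℕ) :
    acc ∣ leaf w M t0 fuel x acc ∧ ∀ b, x.testBit b = true → dbl (lab w M t0 b) ∣ leaf w M t0 fuel x acc := by
  induction fuel generalizing x acc with
  | zero =>
    change acc ∣ cond (Nat.beq x 0) acc 0 ∧ ∀ b, _ → _ ∣ cond (Nat.beq x 0) acc 0
    cases h : Nat.beq x 0 with
    | false => exact ⟨dvd_zero _, fun _ _ => dvd_zero _⟩
    | true => exact ⟨dvd_rfl, fun b hb => by simp [Nat.eq_of_beq_eq_true h] at hb⟩
  | succ f ih =>
    have e : leaf w M t0 (f + 1) x acc = cond (Nat.beq x 0) acc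
      (leaf w M t0 f (x ^^^ 1 <<< low x) (acc * dbl (lab w M t0 (low x)))) := rfl
    rw [e]
    cases h : Nat.beq x 0 with
    | true => exact ⟨dvd_rfl, fun b hb => by simp [Nat.eq_of_beq_eq_true h] at hb⟩
    | false =>
      obtain ⟨h1, h2⟩ := ih (x ^^^ 1 <<< low x) (acc * dbl (lab w M t0 (low x)))
      refine ⟨(dvd_mul_right _ _).trans h1, fun b hb => ?_⟩
      by_cases h3 : low x = b
      · exact h3 ▸ (dvd_mul_left _ _).trans h1
      · exact h2 b (by rw [Nat.testBit_xor, hb, Nat.one_shiftLeft, Nat.testBit_two_pow_of_ne h3]; rfl)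

theorem lab_shift {w : ℕ} (hw : 0 < w) (M t0 n b : ℕ) : lab w M t0 (w * n + b) = lab w M (t0 + 60 * n) b := by
  change (w * n + b) % w * M + (w * n + b) / w * 60 + t0 = b % w * M + b / w * 60 + (t0 + 60 * n)
  rw [Nat.mul_add_mod, Nat.mul_add_div hw]
  ring

/-- the product tree over `2 ^ d` leaves of `L` lanes -/
def tree (w M L fuel d : ℕ) : ℕ → ℕ → ℕ :=
  Nat.rec (motive := fun _ => ℕ → ℕ → ℕ) (fun x t0 => leaf w M t0 fuel x 1)
    (fun k ih x t0 => (fun n => Nat.mul (ih (Nat.mod x (Nat.shiftLeft 1 (Nat.mul w n))) t0)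
      (ih (Nat.shiftRight x (Nat.mul w n)) (Nat.add t0 (Nat.mul 60 n)))) (Nat.shiftLeft L k)) d

theorem tree_spec {w : ℕ} (hw : 0 < w) (M L fuel d x t0 b : ℕ) (hb : x.testBit b = true) :
    dbl (lab w M t0 b) ∣ tree w M L fuel d x t0 := by
  induction d generalizing x t0 b with
  | zero => exact (leaf_spec w M t0 fuel x 1).2 b hb
  | succ k ih =>
    change _ ∣ tree w M L fuel k (x % 1 <<< (w * L <<< k)) t0 * tree w M L fuel k (x >>> (w * L <<< k)) (t0 + 60 * L <<< k)
    generalize L <<< k = n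
    rcases lt_or_ge b (w * n) with h | h
    · exact (ih _ _ b (by rw [Nat.one_shiftLeft, Nat.testBit_mod_two_pow, hb, decide_eq_true h]; rfl)).mul_right _
    · obtain ⟨b, rfl⟩ := Nat.exists_eq_add_of_le h
      rw [lab_shift hw]
      exact (ih _ _ b (by rw [Nat.testBit_shiftRight, hb])).mul_left _

/-- every set bit of `x` stands for a safe prime -/
def SB (w M x t0 : ℕ) : Prop := ∀ b, x.testBit b = true → Safe (lab w M t0 b)

theorem SB.join {w M x y t0 : ℕ} (n t1 s : ℕ) (hw : 0 < w) (hx : SB w M x t0) (hy : SB w M y t1)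
    (h : (Nat.beq t1 (t0 + 60 * n) && Nat.beq s (w * n)) = true) : SB w M (Nat.lor x (Nat.shiftLeft y s)) t0 := by
  rw [Bool.and_eq_true] at h
  obtain rfl := Nat.eq_of_beq_eq_true h.1
  obtain rfl := Nat.eq_of_beq_eq_true h.2
  intro b hb
  change (x ||| y <<< (w * n)).testBit b = true at hb
  rw [Nat.testBit_or, Bool.or_eq_true, Nat.testBit_shiftLeft, Bool.and_eq_true, decide_eq_true_eq] at hb
  rcases hb with hb | ⟨h1, hb⟩
  · exact hx b hb
  · obtain ⟨b, rfl⟩ := Nat.exists_eq_add_of_le h1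
    rw [lab_shift hw]
    exact hy b (by rwa [Nat.add_sub_cancel_left] at hb)

theorem prime_of_cop {s Q n : ℕ} (hQ : QB s Q) (h1 : 1 < n) (h2 : n % 2 = 1) (h3 : n % 3 ≠ 0) (h5 : n % 5 ≠ 0)
    (hs : n < (s + 1) * (s + 1)) (h : Nat.Coprime n Q) : n.Prime := by
  by_contra hn
  have hp := Nat.minFac_prime h1.ne'
  have hd := Nat.minFac_dvd n
  have h4 := Nat.minFac_sq_le_self (by omega) hn
  generalize n.minFac = d at hp hd h4
  have h7 : 7 ≤ d := by
    by_contra h7
    have h0 := hp.two_le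
    have h8 : d < 7 := by omega
    interval_cases d <;> omega
  have h6 : d ≤ s := by
    by_contra h6
    have := Nat.mul_le_mul (not_le.1 h6) (not_le.1 h6)
    rw [sq] at h4
    simp only [Nat.succ_eq_add_one] at this
    omega
  have := Nat.le_of_dvd one_pos (h ▸ Nat.dvd_gcd hd (hQ d hp h7 h6))
  omega

/-- the checker of a chunk of `L * 2 ^ d` lanes -/
def chk (Q s w m L fuel d x t0 : ℕ) : Bool :=
  and (Nat.beq (Nat.gcd (tree w (Nat.mul 60 m) L fuel d x t0) Q) 1)
    (and (Nat.beq (Nat.shiftRight x (Nat.mul w (Nat.shiftLeft L d))) 0)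
      (and (or (Nat.beq (Nat.mod t0 60) 59) (Nat.beq (Nat.mod t0 60) 47))
        (Nat.ble (Nat.add (Nat.add (Nat.mul (Nat.pred w) (Nat.mul 60 m)) (Nat.mul (Nat.shiftLeft L d) 60)) t0)
          (Nat.mul (Nat.succ s) (Nat.succ s)))))

theorem sb_of {Q s w m L fuel d x t0 : ℕ} (hQ : QB s Q) (hw : 0 < w) (h : chk Q s w m L fuel d x t0 = true) :
    SB w (60 * m) x t0 := by
  simp only [chk, Bool.and_eq_true, Bool.or_eq_true] at h
  obtain ⟨h1, h2, h3, h4⟩ := h
  have h1 : Nat.Coprime (tree w (60 * m) L fuel d x t0) Q := Nat.eq_of_beq_eq_true h1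
  have h2 : x >>> (w * L <<< d) = 0 := Nat.eq_of_beq_eq_true h2
  have h3 : t0 % 60 = 59 ∨ t0 % 60 = 47 := h3.imp Nat.eq_of_beq_eq_true Nat.eq_of_beq_eq_true
  have h4 : (w - 1) * (60 * m) + L <<< d * 60 + t0 ≤ (s + 1) * (s + 1) := Nat.le_of_ble_eq_true h4
  generalize L <<< d = n at h2 h4
  intro b hb
  have h5 : b < w * n := by
    by_contra h5
    have h6 := congrArg (fun y => y.testBit (b - w * n)) h2
    simp only [Nat.testBit_shiftRight, Nat.zero_testBit] at h6
    rw [Nat.add_sub_cancel' (not_lt.1 h5), hb] at h6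
    exact absurd h6 (by decide)
  have h6 : b / w < n := Nat.div_lt_of_lt_mul h5
  have h7 : b % w * (60 * m) ≤ (w - 1) * (60 * m) := Nat.mul_le_mul_right _ (by have := Nat.mod_lt b hw; omega)
  have h8 := h1.coprime_dvd_left (tree_spec hw (60 * m) L fuel d x t0 b hb)
  have h9 : lab w (60 * m) t0 b = 60 * (b % w * m) + b / w * 60 + t0 := by
    change b % w * (60 * m) + b / w * 60 + t0 = _
    ring
  rw [show b % w * (60 * m) = 60 * (b % w * m) by ring] at h7
  generalize lab w (60 * m) t0 b = l at h8 h9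
  change Nat.Coprime (l * (l >>> 1)) Q at h8
  rw [Nat.shiftRight_one] at h8
  exact ⟨prime_of_cop hQ (by omega) (by omega) (by omega) (by omega) (by omega) h8.coprime_mul_right,
    prime_of_cop hQ (by omega) (by omega) (by omega) (by omega) (by omega) h8.coprime_mul_left, by omega⟩

end Cfsg.Agent.Depth.L
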